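import Cfsg.Agent.H51.E6Max.Defs
import Mathlib.Algebra.Algebra.Pi

/-!
The operations on subspaces of the adjoint module of ²E₆(2) attached to a subgroup: invariance under
the normaliser, and certificates for their values.
-/

set_option autoImplicit false

namespace H36.E6Max

open Cfsg.Lie H52 H60.TE6 H51.E6Max Matrix

universe u

variable {K : Type u} [Field K]

/-- The matrix of an element of the twisted group. -/
abbrev mat (g : twistedE6 K 2) : Matrix chevE6.Idx chevE6.Idx K :=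
  ((g : GL chevE6.Idx K) : Matrix chevE6.Idx chevE6.Idx K)

/-- The matrices of a subgroup. -/
def mats (P : Subgroup (twistedE6 K 2)) : Set (Matrix chevE6.Idx chevE6.Idx K) :=
  mat '' (P : Set (twistedE6 K 2))

/-- The image of a subspace under an element of the twisted group. -/
noncomputable def act (g : twistedE6 K 2) (S : Submodule K (V K)) : Submodule K (V K) :=
  S.map (Matrix.mulVecLin (mat g))

theorem mat_one : mat (1 : twistedE6 K 2) = 1 := rfl

theorem mat_mul (g h : twistedE6 K 2) : mat (g * h) = mat g * mat h := rfl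

theorem mat_pow (g : twistedE6 K 2) (n : ℕ) : mat (g ^ n) = mat g ^ n := by
  simp [mat, Units.val_pow_eq_pow_val]

theorem act_one (S : Submodule K (V K)) : act 1 S = S := by
  simp [act, mat_one, Submodule.map_id]

theorem act_mul (g h : twistedE6 K 2) (S : Submodule K (V K)) : act (g * h) S = act g (act h S) := by
  rw [act, act, act, mat_mul, Matrix.mulVecLin_mul, Submodule.map_comp]

theorem mat_mulVec_cancel (g : twistedE6 K 2) (v : V K) :
    mat g⁻¹ *ᵥ (mat g *ᵥ v) = v := by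
  rw [mulVec_mulVec, ← mat_mul, inv_mul_cancel, mat_one, one_mulVec]

theorem mat_injective (g : twistedE6 K 2) : Function.Injective (Matrix.mulVecLin (mat g)) :=
  Function.LeftInverse.injective (g := fun v => mat g⁻¹ *ᵥ v) (mat_mulVec_cancel g)

theorem act_inf (g : twistedE6 K 2) (S T : Submodule K (V K)) : act g (S ⊓ T) = act g S ⊓ act g T :=
  Submodule.map_inf _ (mat_injective g)

theorem act_sup (g : twistedE6 K 2) (S T : Submodule K (V K)) : act g (S ⊔ T) = act g S ⊔ act g T :=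
  Submodule.map_sup _ _ _

/-- A subspace mapped into itself by a subgroup is fixed by it. -/
theorem act_eq_of_le {N : Subgroup (twistedE6 K 2)} {W : Submodule K (V K)}
    (h : ∀ g ∈ N, act g W ≤ W) {g : twistedE6 K 2} (hg : g ∈ N) : act g W = W := by
  refine le_antisymm (h g hg) ?_
  calc W = act g (act g⁻¹ W) := by rw [← act_mul, mul_inv_cancel, act_one]
    _ ≤ act g W := Submodule.map_mono (h _ (inv_mem hg))

/-- The stabiliser of a subspace. -/
noncomputable def stabW (W : Submodule K (V K)) : Subgroup (twistedE6 K 2) where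
  carrier := {g | act g W = W}
  one_mem' := act_one W
  mul_mem' := fun {g h} hg hh => by
    simp only [Set.mem_ofPred_eq] at hg hh ⊢
    rw [act_mul, hh, hg]
  inv_mem' := fun {g} hg => by
    simp only [Set.mem_ofPred_eq] at hg ⊢
    conv_lhs => rw [← hg]
    rw [← act_mul, inv_mul_cancel, act_one]

/-- A subspace invariant under the normaliser whose stabiliser is a strictly larger proper subgroup. -/
theorem not_coatom {P : Subgroup (twistedE6 K 2)} {W : Submodule K (V K)}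
    (hW : ∀ n ∈ Subgroup.normalizer (P : Set (twistedE6 K 2)), act n W = W)
    {h : twistedE6 K 2} (hh : act h W = W)
    (hhN : h ∉ Subgroup.normalizer (P : Set (twistedE6 K 2)))
    {g : twistedE6 K 2} (hg : act g W ≠ W) :
    ¬ IsCoatom (Subgroup.normalizer (P : Set (twistedE6 K 2))) := by
  intro hco
  have h1 : Subgroup.normalizer (P : Set (twistedE6 K 2)) < stabW W :=
    lt_of_le_of_ne hW fun e => hhN (by rw [e]; exact hh)
  have h2 : g ∈ stabW W := by
    rw [hco.2 _ h1]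
    exact Subgroup.mem_top g
  exact hg h2

/-! ### Fixed and commutator spaces -/

theorem mem_fixSp {S : Set (Matrix chevE6.Idx chevE6.Idx K)} {v : V K} :
    v ∈ fixSp S ↔ ∀ y ∈ S, y *ᵥ v = v := by
  simp [fixSp, Submodule.mem_iInf, sub_eq_zero]

theorem mem_imgSp {S : Set (Matrix chevE6.Idx chevE6.Idx K)} {y : Matrix chevE6.Idx chevE6.Idx K}
    (hy : y ∈ S) (v : V K) : y *ᵥ v - v ∈ imgSp S :=
  Submodule.mem_iSup_of_mem y (Submodule.mem_iSup_of_mem hy ⟨v, rfl⟩)

theorem conj_mulVec (g y : twistedE6 K 2) (v : V K) :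
    mat (g * y * g⁻¹) *ᵥ (mat g *ᵥ v) = mat g *ᵥ (mat y *ᵥ v) := by
  rw [mulVec_mulVec, mulVec_mulVec, ← mat_mul, ← mat_mul, inv_mul_cancel_right]

theorem act_fixSp {P : Subgroup (twistedE6 K 2)} {g : twistedE6 K 2}
    (hg : g ∈ Subgroup.normalizer (P : Set (twistedE6 K 2))) :
    act g (fixSp (mats P)) = fixSp (mats P) := by
  refine act_eq_of_le (fun n hn => ?_) hg
  rintro _ ⟨v, hv, rfl⟩
  rw [mem_fixSp]
  rintro _ ⟨y, hy, rfl⟩
  obtain ⟨x, hx, rfl⟩ : ∃ x ∈ P, n * x * n⁻¹ = y :=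
    ⟨n⁻¹ * y * n, (Subgroup.mem_normalizer_iff.1 hn _).2 (by simpa [mul_assoc] using hy), by group⟩
  rw [mulVecLin_apply, conj_mulVec, mem_fixSp.1 hv _ ⟨x, hx, rfl⟩]

theorem act_imgSp {P : Subgroup (twistedE6 K 2)} {g : twistedE6 K 2}
    (hg : g ∈ Subgroup.normalizer (P : Set (twistedE6 K 2))) :
    act g (imgSp (mats P)) = imgSp (mats P) := by
  refine act_eq_of_le (fun n hn => ?_) hg
  rw [act, Submodule.map_le_iff_le_comap]
  refine iSup₂_le fun y hy => ?_
  obtain ⟨x, hx, rfl⟩ := hy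
  rintro _ ⟨v, rfl⟩
  simp only [Submodule.mem_comap, LinearMap.sub_apply, mulVecLin_apply, LinearMap.id_apply,
    mulVec_sub]
  rw [← conj_mulVec]
  exact mem_imgSp (show mat (n * x * n⁻¹) ∈ mats P from
    ⟨_, (Subgroup.mem_normalizer_iff.1 hn _).1 hx, rfl⟩) _

theorem fixSp_zpowers (x : twistedE6 K 2) :
    fixSp (mats (Subgroup.zpowers x)) = LinearMap.ker (Matrix.mulVecLin (mat x) - LinearMap.id) := by
  refine le_antisymm (iInf₂_le _ ⟨x, Subgroup.mem_zpowers x, rfl⟩) fun v hv => ?_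
  have hx : mat x *ᵥ v = v := by simpa [sub_eq_zero] using hv
  rw [mem_fixSp]
  rintro _ ⟨y, hy, rfl⟩
  let H : Subgroup (twistedE6 K 2) :=
    { carrier := {y | mat y *ᵥ v = v}
      one_mem' := by simp [mat_one]
      mul_mem' := fun {a b} ha hb => by
        simp only [Set.mem_ofPred_eq] at ha hb ⊢
        rw [mat_mul, ← mulVec_mulVec, hb, ha]
      inv_mem' := fun {a} ha => by
        simp only [Set.mem_ofPred_eq] at ha ⊢
        conv_lhs => rw [← ha]
        exact mat_mulVec_cancel a v }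
  exact (Subgroup.zpowers_le.2 (show x ∈ H from hx)) hy

theorem imgSp_zpowers (x : twistedE6 K 2) :
    imgSp (mats (Subgroup.zpowers x)) =
      LinearMap.range (Matrix.mulVecLin (mat x) - LinearMap.id) := by
  refine le_antisymm (iSup₂_le ?_)
    (le_iSup₂_of_le (mat x) ⟨x, Subgroup.mem_zpowers x, rfl⟩ le_rfl)
  set R := LinearMap.range (Matrix.mulVecLin (mat x) - LinearMap.id) with hR
  let H : Subgroup (twistedE6 K 2) :=
    { carrier := {y | ∀ v, mat y *ᵥ v - v ∈ R}
      one_mem' := fun v => by simp [mat_one]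
      mul_mem' := fun {a b} ha hb v => by
        have := R.add_mem (ha (mat b *ᵥ v)) (hb v)
        rw [mat_mul, ← mulVec_mulVec]
        simpa using this
      inv_mem' := fun {a} ha v => by
        have := R.neg_mem (ha (mat a⁻¹ *ᵥ v))
        rw [mulVec_mulVec, ← mat_mul, mul_inv_cancel, mat_one, one_mulVec] at this
        simpa using this }
  rintro _ ⟨y, hy, rfl⟩ _ ⟨v, rfl⟩
  exact (Subgroup.zpowers_le.2 (show x ∈ H from fun v => ⟨v, rfl⟩)) hy v

/-! ### The bracket -/

/-- The bracket matrix as a linear map. -/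
noncomputable def adLin (w : K) : V K →ₗ[K] Matrix chevE6.Idx chevE6.Idx K :=
  ∑ j, (LinearMap.proj j : V K →ₗ[K] K).smulRight (toK w (adRows.getD (code chevE6 j) 0))

theorem adLin_apply (w : K) (x : V K) : adLin w x = adMat w x := by
  simp [adLin, adMat, LinearMap.sum_apply]

theorem adMat_mulVec (w : K) (M : Matrix chevE6.Idx chevE6.Idx K) (t : V K) :
    adMat w (M *ᵥ t) = ∑ j, t j • adMat w (fun i => M i j) := by
  have e : M *ᵥ t = ∑ j, t j • (fun i => M i j) := by
    ext i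
    simp [Matrix.mulVec, dotProduct, mul_comm]
  simp only [← adLin_apply, e, map_sum, map_smul]

theorem sum_bra_left (w : K) {x : Matrix chevE6.Idx chevE6.Idx K} {p c : ℕ} (b : V K) :
    ∃ f : V K →ₗ[K] V K,
      ∀ a, f a = ∑ i ∈ Finset.range p, bra w ((x ^ i) *ᵥ a) ((x ^ (c * i)) *ᵥ b) := by
  refine ⟨{ toFun := fun a => ∑ i ∈ Finset.range p, bra w ((x ^ i) *ᵥ a) ((x ^ (c * i)) *ᵥ b)
            map_add' := fun a a' => ?_
            map_smul' := fun r a => ?_ }, fun a => rfl⟩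
  · simp only [bra, ← adLin_apply, mulVec_add, map_add, add_mulVec, Finset.sum_add_distrib]
  · simp only [bra, ← adLin_apply, mulVec_smul, map_smul, smul_mulVec, Finset.smul_sum,
      RingHom.id_apply]

section Equiv

variable {w : K} (hE : EquivFor w)

include hE

theorem act_brSp {g : twistedE6 K 2} {A B : Submodule K (V K)} (hA : act g A = A) (hB : act g B = B) :
    act g (brSp w A B) = brSp w A B := by
  refine act_eq_of_le (N := stabW A ⊓ stabW B) (fun n hn => ?_) ⟨hA, hB⟩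
  rw [act, brSp, Submodule.map_span_le]
  rintro _ ⟨a, ha, b, hb, rfl⟩
  refine Submodule.subset_span ⟨mat n *ᵥ a, ?_, mat n *ᵥ b, ?_, ?_⟩
  · rw [← (hn.1 : act n A = A)]; exact ⟨a, ha, rfl⟩
  · rw [← (hn.2 : act n B = B)]; exact ⟨b, hb, rfl⟩
  · exact (hE _ n.2 a b).symm

theorem act_twSp {g x : twistedE6 K 2} {p c : ℕ} (hp : p.Prime) (hx : x ^ p = 1)
    (hg : g ∈ Subgroup.normalizer (Subgroup.zpowers x : Set (twistedE6 K 2)))
    {A B : Submodule K (V K)} (hA : act g A = A) (hB : act g B = B) :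
    act g (twSp w (mat x) p c A B) = twSp w (mat x) p c A B := by
  classical
  refine act_eq_of_le
    (N := Subgroup.normalizer (Subgroup.zpowers x : Set (twistedE6 K 2)) ⊓ (stabW A ⊓ stabW B))
    (fun n hn => ?_) ⟨hg, hA, hB⟩
  rw [act, twSp, Submodule.map_span_le]
  rintro _ ⟨a, ha, b, hb, rfl⟩
  refine Submodule.subset_span ⟨mat n *ᵥ a, ?_, mat n *ᵥ b, ?_, ?_⟩
  · rw [← (hn.2.1 : act n A = A)]; exact ⟨a, ha, rfl⟩
  · rw [← (hn.2.2 : act n B = B)]; exact ⟨b, hb, rfl⟩
  obtain ⟨k, hk⟩ := Subgroup.mem_zpowers_iff.1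
    ((Subgroup.mem_normalizer_iff.1 hn.1 x).1 (Subgroup.mem_zpowers x))
  obtain ⟨m, hm⟩ : ∃ m : ℕ, n * x * n⁻¹ = x ^ m := by
    refine ⟨(k % (p : ℤ)).toNat, ?_⟩
    rw [← hk, ← zpow_natCast x (k % (p : ℤ)).toNat,
      Int.toNat_of_nonneg (Int.emod_nonneg k (by exact_mod_cast hp.ne_zero))]
    conv_lhs => rw [← Int.mul_ediv_add_emod k p]
    rw [_root_.zpow_add, _root_.zpow_mul, zpow_natCast, hx, _root_.one_zpow, one_mul]
  have key : ∀ (i : ℕ) (v : V K), mat n *ᵥ ((mat x ^ i) *ᵥ v) =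
      (mat x ^ (m * i)) *ᵥ (mat n *ᵥ v) := by
    intro i v
    rw [← mat_pow, ← mat_pow, ← conj_mulVec, pow_mul, ← hm, conj_pow]
  have hmod : ∀ i, mat x ^ (i % p) = mat x ^ i := fun i => by
    rw [← mat_pow, ← mat_pow, pow_eq_pow_mod i hx]
  let F : ℕ → V K := fun i =>
    bra w ((mat x ^ i) *ᵥ (mat n *ᵥ a)) ((mat x ^ (c * i)) *ᵥ (mat n *ᵥ b))
  have hF : ∀ i, mat n *ᵥ bra w ((mat x ^ i) *ᵥ a) ((mat x ^ (c * i)) *ᵥ b) = F (m * i % p) := by
    intro i
    rw [← hE _ n.2, key, key]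
    simp only [F]
    congr 2
    · rw [hmod]
    · rw [← hmod (c * (m * i % p)), Nat.mul_mod, Nat.mod_mod, ← Nat.mul_mod, hmod]
      congr 1
      ring
  rw [mulVecLin_apply, mulVec_sum, Finset.sum_congr rfl fun i _ => hF i]
  by_cases hx1 : x = 1
  · exact (Finset.sum_congr rfl fun i _ => by simp [F, hx1, mat_one]).symm
  have hmp : Nat.Coprime p m := hp.coprime_iff_not_dvd.2 fun hdvd => hx1 (by
    obtain ⟨q, rfl⟩ := hdvd
    rw [pow_mul, hx, one_pow, conj_eq_one_iff] at hm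
    exact hm)
  have hinj : Set.InjOn (fun i => m * i % p) (Finset.range p : Set ℕ) := by
    intro i hi j hj e
    have hij : i ≡ j [MOD p] := Nat.ModEq.cancel_left_of_coprime hmp e
    simp only [Finset.coe_range, Set.mem_Iio] at hi hj
    exact hij.eq_of_lt_of_lt hi hj
  rw [← Finset.sum_image hinj]
  refine Finset.sum_congr (Finset.eq_of_subset_of_card_le ?_ ?_) fun i _ => rfl
  · exact Finset.image_subset_iff.2 fun i _ => Finset.mem_range.2 (Nat.mod_lt _ hp.pos)
  · rw [Finset.card_image_of_injOn hinj]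

end Equiv

/-! ### Certificates -/

theorem ker_eq_range {A B C R : Matrix chevE6.Idx chevE6.Idx K} (h0 : A * B = 0)
    (h1 : R * A + B * C = 1) :
    LinearMap.ker (Matrix.mulVecLin A) = LinearMap.range (Matrix.mulVecLin B) := by
  apply le_antisymm
  · intro v hv
    refine ⟨C *ᵥ v, ?_⟩
    have e : (R * A + B * C) *ᵥ v = v := by rw [h1, one_mulVec]
    have hv' : A *ᵥ v = 0 := hv
    rwa [add_mulVec, ← mulVec_mulVec, hv', mulVec_zero, zero_add, ← mulVec_mulVec] at e
  · rintro _ ⟨v, rfl⟩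
    simp [LinearMap.mem_ker, h0]

theorem colSp_eq (w : K) (B : ℕ) :
    colSp w B = LinearMap.range (Matrix.mulVecLin (toK w B)) := by
  rw [Matrix.range_mulVecLin]
  rfl

theorem range_le_of_mul {B C M : Matrix chevE6.Idx chevE6.Idx K} (h : C = B * M) :
    LinearMap.range (Matrix.mulVecLin C) ≤ LinearMap.range (Matrix.mulVecLin B) := by
  rintro _ ⟨v, rfl⟩
  exact ⟨M *ᵥ v, by simp [h]⟩

/-- A range is preserved by a matrix when the product factors through it. -/
theorem range_invariant {X B M : Matrix chevE6.Idx chevE6.Idx K} (h : X * B = B * M) :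
    ∀ b ∈ LinearMap.range (Matrix.mulVecLin B), X *ᵥ b ∈ LinearMap.range (Matrix.mulVecLin B) := by
  rintro _ ⟨v, rfl⟩
  exact ⟨M *ᵥ v, by simp [h]⟩

theorem brSp_le_ker (w : K) {BA BB Q : Matrix chevE6.Idx chevE6.Idx K}
    (h : ∀ j, Q * adMat w (fun i => BA i j) * BB = 0) :
    brSp w (LinearMap.range (Matrix.mulVecLin BA)) (LinearMap.range (Matrix.mulVecLin BB)) ≤
      LinearMap.ker (Matrix.mulVecLin Q) := by
  rw [brSp, Submodule.span_le]
  rintro _ ⟨_, ⟨s, rfl⟩, _, ⟨t, rfl⟩, rfl⟩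
  show Q *ᵥ (adMat w (BA *ᵥ s) *ᵥ (BB *ᵥ t)) = 0
  rw [adMat_mulVec, mulVec_mulVec, mulVec_mulVec, Matrix.mul_sum, Matrix.sum_mul, sum_mulVec]
  refine Finset.sum_eq_zero fun j _ => ?_
  rw [Matrix.mul_smul, Matrix.smul_mul, h, smul_zero, zero_mulVec]

theorem range_le_brSp (w : K) {BA BB BW : Matrix chevE6.Idx chevE6.Idx K}
    (l : List (chevE6.Idx × Matrix chevE6.Idx chevE6.Idx K))
    (h : BW = (l.map fun q => adMat w (fun i => BA i q.1) * BB * q.2).sum) :
    LinearMap.range (Matrix.mulVecLin BW) ≤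
      brSp w (LinearMap.range (Matrix.mulVecLin BA)) (LinearMap.range (Matrix.mulVecLin BB)) := by
  subst h
  rintro _ ⟨v, rfl⟩
  induction l with
  | nil => simp
  | cons q l ih =>
    rw [List.map_cons, List.sum_cons, mulVecLin_apply, add_mulVec]
    refine Submodule.add_mem _ (Submodule.subset_span
      ⟨fun i => BA i q.1, ⟨Pi.single q.1 1, ?_⟩, BB *ᵥ (q.2 *ᵥ v), ⟨_, rfl⟩, ?_⟩) ih
    · simp [mulVec_single_one]
      rfl
    · simp [bra, ← mul_assoc]

theorem twSp_le_ker (w : K) {x : Matrix chevE6.Idx chevE6.Idx K} {p c : ℕ} (hx : x ^ p = 1)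
    {ι : Type*} (u : ι → V K) {BB Q : Matrix chevE6.Idx chevE6.Idx K} {A : Submodule K (V K)}
    (hA : A ≤ Submodule.span K {v | ∃ k, ∃ i : ℕ, v = (x ^ i) *ᵥ u k})
    (hBx : ∀ b ∈ LinearMap.range (Matrix.mulVecLin BB),
      x *ᵥ b ∈ LinearMap.range (Matrix.mulVecLin BB))
    (h : ∀ k, Q * (∑ i ∈ Finset.range p, adMat w ((x ^ i) *ᵥ u k) * x ^ (c * i)) * BB = 0) :
    twSp w x p c A (LinearMap.range (Matrix.mulVecLin BB)) ≤
      LinearMap.ker (Matrix.mulVecLin Q) := by
  rcases Nat.eq_zero_or_pos p with rfl | hp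
  · rw [twSp, Submodule.span_le]
    rintro _ ⟨a, -, b, -, rfl⟩
    simp
  rw [twSp, Submodule.span_le]
  rintro _ ⟨a, ha, b, hb, rfl⟩
  obtain ⟨f, hf⟩ := sum_bra_left w (x := x) (p := p) (c := c) b
  rw [← hf]
  refine (Submodule.span_le (p := (LinearMap.ker (Matrix.mulVecLin Q)).comap f)).2 ?_ (hA ha)
  rintro _ ⟨k, j, rfl⟩
  simp only [SetLike.mem_coe, Submodule.mem_comap, LinearMap.mem_ker, mulVecLin_apply, hf]
  have hpow : ∀ (i : ℕ) (d : V K), d ∈ LinearMap.range (Matrix.mulVecLin BB) →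
      (x ^ i) *ᵥ d ∈ LinearMap.range (Matrix.mulVecLin BB) := by
    intro i
    induction i with
    | zero => intro d hd; simpa using hd
    | succ i ih => intro d hd; rw [pow_succ, ← mulVec_mulVec]; exact ih _ (hBx d hd)
  obtain ⟨t, ht⟩ := hpow (c * ((p - 1) * j)) b hb
  rw [mulVecLin_apply] at ht
  have hmod : ∀ i, x ^ (i % p) = x ^ i := fun i => (pow_eq_pow_mod i hx).symm
  let F : ℕ → V K := fun i => bra w ((x ^ i) *ᵥ u k) ((x ^ (c * i)) *ᵥ (BB *ᵥ t))
  have hterm : ∀ i, bra w ((x ^ i) *ᵥ ((x ^ j) *ᵥ u k)) ((x ^ (c * i)) *ᵥ b) = F ((i + j) % p) := by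
    intro i
    simp only [F]
    rw [ht, mulVec_mulVec, ← pow_add, mulVec_mulVec, ← pow_add, hmod]
    congr 2
    conv_rhs => rw [← hmod, Nat.add_mod, Nat.mul_mod, Nat.mod_mod, ← Nat.mul_mod, ← Nat.add_mod,
      hmod]
    have e : c * (i + j) + c * ((p - 1) * j) = c * i + p * (c * j) := by
      obtain ⟨q, rfl⟩ : ∃ q, p = q + 1 := ⟨p - 1, by omega⟩
      simp only [Nat.add_sub_cancel]
      ring
    rw [e, pow_add, pow_mul _ p, hx, one_pow, mul_one]
  have hinj : Set.InjOn (fun i => (i + j) % p) (Finset.range p : Set ℕ) := by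
    intro i hi i' hi' e
    have hij : i ≡ i' [MOD p] := Nat.ModEq.add_right_cancel' j e
    simp only [Finset.coe_range, Set.mem_Iio] at hi hi'
    exact hij.eq_of_lt_of_lt hi hi'
  rw [Finset.sum_congr rfl fun i _ => hterm i, ← Finset.sum_image hinj,
    Finset.eq_of_subset_of_card_le
      (Finset.image_subset_iff.2 fun i _ => Finset.mem_range.2 (Nat.mod_lt _ hp))
      (Finset.card_image_of_injOn hinj).ge]
  have e := congrArg (fun M => M *ᵥ t) (h k)
  simp only [zero_mulVec, ← mulVec_mulVec, sum_mulVec] at e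
  simpa [F, bra] using e

theorem range_le_twSp (w : K) {x : Matrix chevE6.Idx chevE6.Idx K} {p c : ℕ}
    {BB BW : Matrix chevE6.Idx chevE6.Idx K} {A : Submodule K (V K)}
    (l : List (V K × Matrix chevE6.Idx chevE6.Idx K)) (hl : ∀ q ∈ l, q.1 ∈ A)
    (h : BW = (l.map fun q =>
      (∑ i ∈ Finset.range p, adMat w ((x ^ i) *ᵥ q.1) * x ^ (c * i)) * BB * q.2).sum) :
    LinearMap.range (Matrix.mulVecLin BW) ≤
      twSp w x p c A (LinearMap.range (Matrix.mulVecLin BB)) := by
  subst h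
  rintro _ ⟨v, rfl⟩
  induction l with
  | nil => simp
  | cons q l ih =>
    rw [List.map_cons, List.sum_cons, mulVecLin_apply, add_mulVec]
    refine Submodule.add_mem _ (Submodule.subset_span
      ⟨q.1, hl q (by simp), BB *ᵥ (q.2 *ᵥ v), ⟨_, rfl⟩, ?_⟩)
      (ih fun q' hq' => hl q' (List.mem_cons_of_mem _ hq'))
    simp only [← mulVec_mulVec, sum_mulVec, bra]

end H36.E6Max
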